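import Cfsg.Agent.H428.NBL.Chev
import Cfsg.Agent.S1054
import Cfsg.Agent.S1055
import Cfsg.Agent.H718.NBIH

/-!
# `NB p` for `G₂(q), F₄(q), E₆(q), E₇(q), E₈(q)`, `q ≥ 3` or `p ≠ 3` (helper428)

`nb_big_g2`, `nb_big_f4`, `nb_big_e6`, `nb_big_e7`, `nb_big_e8`.
-/

set_option autoImplicit false
set_option linter.unusedSectionVars false

namespace Cfsg.Agent.H428.NBL

open CoxeterSystem Subgroup Cfsg Cfsg.Lie Cfsg.Lie.ChevalleyDatum
open Cfsg.Agent.ChevalleyStructure Cfsg.Agent.ChevalleyStructure.Elts Cfsg.Agent.ChevalleyStructure.CoxeterGeom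
  Cfsg.Agent.ChevalleyStructure.CoxeterGeomTypes Cfsg.Agent.ChevalleyStructure.NPerm
open Cfsg.Agent.Tits.Roots Cfsg.Agent.Nodes.Reps Cfsg.Agent.Nodes.BNOf
  Cfsg.Agent.Nodes.RGDChev Cfsg.Agent.Nodes.Bruhat Cfsg.Agent.Nodes.Coroot Cfsg.Agent.KFacts.RgdTI
open Cfsg.Agent.KFacts.RgdChevCoord Cfsg.Agent.H7.NBp
open Cfsg.Agent.H225.PPow Cfsg.Agent.KFacts.SLRow.Def

/-- conversion of the induction hypothesis -/
theorem IH.of_hub {p n : ℕ} (ih : H718.NBIH.IH p n) : IH.{0} p n := by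
  intro L _ _ hs hna hl
  have := hs
  exact ih L hna hl

theorem cE6 : chevE6.cartan 0 (wact chevE6 ([] : List (Fin 6)) (chevE6.simple (1 : Fin 6))) = 0 := by decide +kernel
theorem cE7 : chevE7.cartan 0 (wact chevE7 ([] : List (Fin 7)) (chevE7.simple (1 : Fin 7))) = 0 := by decide +kernel
theorem cE8 : chevE8.cartan 0 (wact chevE8 ([] : List (Fin 8)) (chevE8.simple (1 : Fin 8))) = 0 := by decide +kernel
theorem cF4 : chevF4.cartan 3 (wact chevF4 ([] : List (Fin 4)) (chevF4.simple (0 : Fin 4))) = 0 := by decide +kernel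
theorem cG2 : chevG2.cartan 1 (wact chevG2 ([0, 1] : List (Fin 2)) (chevG2.simple (0 : Fin 2))) = 0 := by decide +kernel

/-- a finite field has prime characteristic -/
theorem exists_char (K : Type) [Field K] [Finite K] : ∃ r : ℕ, ∃ _ : Fact r.Prime, CharP K r := by
  obtain ⟨r, hr⟩ := CharP.exists K
  exact ⟨r, ⟨(CharP.char_is_prime_or_zero K r).resolve_right (CharP.char_ne_zero_of_finite K r)⟩, hr⟩

section

variable {p : ℕ} [hpf : Fact p.Prime] (K : Type) [Field K] [Finite K] (r : ℕ) [Fact r.Prime] [CharP K r]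

theorem nb_E {D : ChevalleyDatum} {l : ℕ} {M : CoxeterMatrix (Fin l)} (hp : IsType D l M) (h4 : ∀ i j, M i j ≠ 4)
    (h6 : ∀ i j, M i j ≠ 6) (hirr : Conn M) (hl : 3 ≤ l)
    (hD : D ∈ [chevD4, chevF4, chevE6, chevE7, chevE8]) (i j : Fin l)
    (hω : D.cartan i (wact D ([] : List (Fin l)) (D.simple j)) = 0) (h2 : p ≠ 2) (hpr : p ≠ r)
    (hq : 3 ≤ Nat.card K ∨ p ≠ 3) (ih : H718.NBIH.IH p (Nat.card ↥(D.group K))) : NB p ↥(D.group K) := by
  let cs := M.toCoxeterSystem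
  have hW : Finite M.Group := finite_W hp cs
  have hsim := Cfsg.Agent.S1054.result (F := K) D hD
  have := hsim.1
  have hLR := KFacts.RgdKap.lr_of h4 h6 hirr (by rw [Fintype.card_fin]; exact hl) (rgd (K := K) hp cs r)
  exact nb_chev hp K cs r hsim.2 h2 hpr (hLR _ (isRoot_sr cs _ i)) j [] hω hq (IH.of_hub ih)

variable (h2 : p ≠ 2) (hpr : p ≠ r) (hq : 3 ≤ Nat.card K ∨ p ≠ 3)

include h2 hpr hq

theorem nb_big_e6 (ih : H718.NBIH.IH p (Nat.card ↥(chevE6.group K))) : NB p ↥(chevE6.group K) :=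
  nb_E K r type_E6 (fun i j => (ne6 i j).1) (fun i j => (ne6 i j).2) conn_E6 (by norm_num) (by simp) 0 1 cE6
    h2 hpr hq ih

theorem nb_big_e7 (ih : H718.NBIH.IH p (Nat.card ↥(chevE7.group K))) : NB p ↥(chevE7.group K) :=
  nb_E K r type_E7 (fun i j => (ne7 i j).1) (fun i j => (ne7 i j).2) conn_E7 (by norm_num) (by simp) 0 1 cE7
    h2 hpr hq ih

theorem nb_big_e8 (ih : H718.NBIH.IH p (Nat.card ↥(chevE8.group K))) : NB p ↥(chevE8.group K) :=
  nb_E K r type_E8 (fun i j => (ne8 i j).1) (fun i j => (ne8 i j).2) conn_E8 (by norm_num) (by simp) 0 1 cE8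
    h2 hpr hq ih

theorem nb_big_f4 (ih : H718.NBIH.IH p (Nat.card ↥(chevF4.group K))) : NB p ↥(chevF4.group K) := by
  let cs := CoxeterMatrix.F₄.toCoxeterSystem
  have hp := type_F4
  have hW : Finite CoxeterMatrix.F₄.Group := finite_W hp cs
  have hsim := Cfsg.Agent.S1054.result (F := K) chevF4 (by simp)
  have := hsim.1
  have L : LR (rgd (K := K) hp cs r) (sr (3 : Fin 4)) := lr_tab hp cs r (d := 0) (dvd_zero _) lrF4_3
  exact nb_chev hp K cs r hsim.2 h2 hpr L 0 [] cF4 hq (IH.of_hub ih)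

omit hq in
theorem nb_big_g2 (hq : 3 ≤ Nat.card K) (ih : H718.NBIH.IH p (Nat.card ↥(chevG2.group K))) :
    NB p ↥(chevG2.group K) := by
  let cs := CoxeterMatrix.G₂.toCoxeterSystem
  have hp := type_G2
  have hW : Finite CoxeterMatrix.G₂.Group := finite_W hp cs
  have hsim := Cfsg.Agent.S1055.result (F := K) (by
    classical
    have : Fintype K := Fintype.ofFinite K
    obtain ⟨a, ha⟩ : ∃ a : Kˣ, a ≠ 1 := by
      by_contra hcon
      push Not at hcon
      have h1 : Nat.card Kˣ = 1 := Nat.card_eq_one_iff_unique.2 ⟨⟨fun a b => by rw [hcon a, hcon b]⟩, ⟨1⟩⟩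
      have h2 := Nat.card_units K
      omega
    exact ⟨a, a.ne_zero, fun h => ha (Units.ext h)⟩)
  have := hsim.1
  have L : LR (rgd (K := K) hp cs r) (sr (1 : Fin 2)) := lr_tab hp cs r (d := 0) (dvd_zero _) lrG2_1
  exact nb_chev hp K cs r hsim.2 h2 hpr L 0 [0, 1] cG2 (Or.inl hq) (IH.of_hub ih)

end

end Cfsg.Agent.H428.NBL
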