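import Cfsg.Agent.H428.NBL.SLK
import Cfsg.Agent.OddHalf.LongSL.Tw

/-!
# The `SL₂(q)` of a fundamental long root of `³D₄(q)`, `²E₆(q)` (helper428)

`fold_hom`, `hom_D4`, `hom_E6`.
-/

set_option autoImplicit false
set_option linter.unusedSectionVars false

namespace Cfsg.Agent.H428.NBL

open CoxeterSystem Cfsg.Agent.ChevalleyStructure.CoxeterGeom Cfsg.Agent.Tits.Roots Cfsg.Agent.Tits.Core
  Cfsg.Agent.Tits.RootComb Cfsg.Agent.Nodes.Comb Cfsg.Agent.Nodes.Reps Cfsg.Agent.Nodes.BNOf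
  Cfsg.Agent.Nodes.RGDTwGen Cfsg.Agent.Nodes.RGDChev Cfsg.Agent.Nodes.RGDFold
open Cfsg.Lie Cfsg.Agent.ChevalleyStructure Cfsg.Agent.ChevalleyStructure.Elts
  Cfsg.Agent.ChevalleyStructure.RootVec Cfsg.Agent.ChevalleyStructure.RootVecTab
  Cfsg.Agent.ChevalleyStructure.NPerm Cfsg.Agent.ChevalleyStructure.CoxeterGeomTypes
  Cfsg.Agent.ChevalleyStructure.TwistedU Cfsg.Agent.ChevalleyStructure.TwistedFix
open Cfsg.Agent.OddHalf.LongSL.Chev Cfsg.Agent.OddHalf.LongSL.Fold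

section Group

variable {D : ChevalleyDatum} {l : ℕ} {M' : CoxeterMatrix (Fin l)} {hp : IsType D l M'} {K : Type} [Field K]
variable {m : ℕ} {M : CoxeterMatrix (Fin m)} {W : Type*} [Group W] (cs : CoxeterSystem M W)
  {A : Fin m → Fin m → ℤ} (h : IsCartan M A)
variable {J : Fin m → List (Fin l)} {L : List (List ℕ)} {σ : GL D.Idx K →* GL D.Idx K} {ρ ρ' : ℕ → ℕ}
    {f : ℕ → K → K} {G : Subgroup (GL D.Idx K)} (FD : FoldData D M A J L)
    (FG : FoldGrp hp K J L σ ρ ρ' f G) (i₀ : Fin m) (j₀ : Fin l)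
    (hA : ∀ k < D.nroots, (V D J k = sr i₀ ↔ k ∈ [D.simple j₀]))
    (hA' : ∀ k < D.nroots, (V D J k = -sr i₀ ↔ k ∈ [D.neg (D.simple j₀)])) (φ : K →+* K)
    (hsp : ∀ t, σ (xG hp.inList (D.simple j₀) t) = xG hp.inList (D.simple j₀) (φ t))
    (hsn : ∀ t, σ (xG hp.inList (D.neg (D.simple j₀)) t) = xG hp.inList (D.neg (D.simple j₀)) (φ t))

include cs h FD FG hA hA' hsp hsn in
theorem fold_hom [Finite K] (p : ℕ) [Fact p.Prime] [CharP K p] :
    ∃ ψ : Matrix.SpecialLinearGroup (Fin 2) (FF φ) →* ↥G, (∀ g, ψ g = 1 → g = 1 ∨ g = -1) ∧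
      ψ.range = (R D hp K J σ (sr i₀)).subgroupOf G ⊔ (R D hp K J σ (-sr i₀)).subgroupOf G := by
  let ψ : Matrix.SpecialLinearGroup (Fin 2) (FF φ) →* ↥G :=
    (psi0 (hp := hp) j₀ φ).codRestrict G (psi0_mem cs h FD FG i₀ j₀ hA hA' φ hsp hsn p)
  have hψ : ∀ g, (ψ g : GL D.Idx K) = psi0 (hp := hp) j₀ φ g := fun g => rfl
  refine ⟨ψ, ?_, range_sl ψ ?_ ?_ ?_ ?_⟩
  · intro g hg
    have hg' : SL2Hom.phi (goodS hp j₀) K (Matrix.SpecialLinearGroup.map (FF φ).subtype g) = 1 :=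
      congrArg Subtype.val hg
    have hmap : Function.Injective (Matrix.SpecialLinearGroup.map (n := Fin 2) (FF φ).subtype) := by
      intro a b hab
      apply Subtype.ext
      ext i j
      have h1 : (FF φ).subtype.mapMatrix a.1 = (FF φ).subtype.mapMatrix b.1 := congrArg Subtype.val hab
      have h2 := congrFun (congrFun h1 i) j
      exact h2
    rcases phi_eq_one _ hg' with h1 | h1
    · left
      exact hmap (h1.trans (map_one _).symm)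
    · right
      apply hmap
      rw [h1]
      apply Subtype.ext
      show ((-1 : Matrix.SpecialLinearGroup (Fin 2) K) : Matrix (Fin 2) (Fin 2) K) = (FF φ).subtype.mapMatrix
        ((-1 : Matrix.SpecialLinearGroup (Fin 2) (FF φ)) : Matrix (Fin 2) (Fin 2) (FF φ))
      rw [Matrix.SpecialLinearGroup.coe_neg, Matrix.SpecialLinearGroup.coe_neg, Matrix.SpecialLinearGroup.coe_one,
        Matrix.SpecialLinearGroup.coe_one, map_neg, map_one]
  · intro t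
    rw [Subgroup.mem_subgroupOf, hψ, psi0_up]
    exact (mem_R_pos i₀ j₀ hA φ hsp _).2 ⟨t, t.2, rfl⟩
  · intro t
    rw [Subgroup.mem_subgroupOf, hψ, psi0_lo]
    exact (mem_R_neg i₀ j₀ hA' φ hsn _).2 ⟨t, t.2, rfl⟩
  · intro u hu
    obtain ⟨t, ht, e⟩ := (mem_R_pos i₀ j₀ hA φ hsp _).1 (Subgroup.mem_subgroupOf.1 hu)
    exact ⟨⟨t, ht⟩, Subtype.ext (by rw [hψ, psi0_up]; exact e)⟩
  · intro u hu
    obtain ⟨t, ht, e⟩ := (mem_R_neg i₀ j₀ hA' φ hsn _).1 (Subgroup.mem_subgroupOf.1 hu)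
    exact ⟨⟨t, ht⟩, Subtype.ext (by rw [hψ, psi0_lo]; exact e)⟩

end Group

open Cfsg.Agent.OddHalf.LongSL.Tw

theorem hom_D4 {K : Type} [Field K] [Fintype K] {q : ℕ} (hK : Fintype.card K = q ^ 3) {φ : K →+* K}
    (hφ : ∀ x, φ x = x ^ q) :
    ∃ ψ : Matrix.SpecialLinearGroup (Fin 2) (FF φ) →* ↥(twistedD4 K q), (∀ g, ψ g = 1 → g = 1 ∨ g = -1) ∧
      ψ.range = Cfsg.Agent.Nodes.RGDTwD4.X φ q (sr 0) ⊔ Cfsg.Agent.Nodes.RGDTwD4.X φ q (-sr 0) := by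
  obtain ⟨p, hp'⟩ := CharP.exists K
  have : Fact p.Prime := ⟨CharP.char_is_prime K p⟩
  have hs : ∀ (r : ℕ) (hr : r < 24), (GraphSymm.symmD4a.σ ⟨r, hr⟩).val = r → GraphSymm.symmD4a.ε ⟨r, hr⟩ = 1 →
      ∀ t : K, D4Fixed.sig φ (Elts.xG Cfsg.Agent.Nodes.RGDTwD4.hp.inList r t) =
        Elts.xG Cfsg.Agent.Nodes.RGDTwD4.hp.inList r (φ t) := by
    intro r hr h1 h2 t
    rw [Cfsg.Agent.Nodes.RGDTwD4.xG_eq]
    have h3 := D4U.sig_xG φ hr h1 h2 t
    rw [Int.cast_one, one_mul] at h3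
    exact h3
  exact fold_hom (CoxeterMatrix.G₂.toCoxeterSystem) Cfsg.Agent.Nodes.RGDTwD4.isCartan
    Cfsg.Agent.Nodes.RGDTwD4.foldData
    (Cfsg.Agent.Nodes.RGDTwD4.foldGrp hφ (D4Fixed.twisted_le_fix hK hφ)) 0 1
    (by
      intro k hk
      rw [Cfsg.Agent.Nodes.RGDTwD4.cls0 k hk]
      show k ∈ [14] ↔ k ∈ [chevD4.simple 1]
      rw [simple_D4.1])
    (by
      intro k hk
      rw [Cfsg.Agent.Nodes.RGDTwD4.cls0' k hk]
      show k ∈ [9] ↔ k ∈ [chevD4.neg (chevD4.simple 1)]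
      rw [simple_D4.1, simple_D4.2])
    φ
    (by
      show ∀ t : K, D4Fixed.sig φ (Elts.xG _ (chevD4.simple 1) t) = Elts.xG _ (chevD4.simple 1) (φ t)
      rw [simple_D4.1]
      exact hs 14 (by norm_num) (by decide +kernel) (by decide +kernel))
    (by
      show ∀ t : K, D4Fixed.sig φ (Elts.xG _ (chevD4.neg (chevD4.simple 1)) t) =
        Elts.xG _ (chevD4.neg (chevD4.simple 1)) (φ t)
      rw [simple_D4.1, simple_D4.2]
      exact hs 9 (by norm_num) (by decide +kernel) (by decide +kernel)) p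

theorem hom_E6 {K : Type} [Field K] [Fintype K] {q : ℕ} {φ : K →+* K}
    (hφ : ∀ x, φ x = x ^ q) (hqq : ∀ t : K, (t ^ q) ^ q = t) :
    ∃ ψ : Matrix.SpecialLinearGroup (Fin 2) (FF φ) →* ↥(twistedE6 K q), (∀ g, ψ g = 1 → g = 1 ∨ g = -1) ∧
      ψ.range = Cfsg.Agent.Nodes.RGDTwE6.X φ q (sr 0) ⊔ Cfsg.Agent.Nodes.RGDTwE6.X φ q (-sr 0) := by
  obtain ⟨p, hp'⟩ := CharP.exists K
  have : Fact p.Prime := ⟨CharP.char_is_prime K p⟩
  have hs : ∀ (r : ℕ) (_ : r < 72), TwistedE6Sigma.rho r = r → ∀ t : K,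
      TwE6Basic.sg φ (Elts.xG Cfsg.Agent.Nodes.RGDTwE6.hp.inList r t) =
        Elts.xG Cfsg.Agent.Nodes.RGDTwE6.hp.inList r (φ t) := by
    intro r hr h1 t
    apply Units.ext
    have h3 := TwistedE6Sigma.sig_xE6 φ (g := Elts.xG Cfsg.Agent.Nodes.RGDTwE6.hp.inList r t) hr (Elts.coe_xG _ _ _)
    rw [h1, TwistedE6Sigma.eps_of_rho_eq r hr h1, Int.cast_one, one_mul] at h3
    exact h3
  exact fold_hom (CoxeterMatrix.F₄.toCoxeterSystem) Cfsg.Agent.Nodes.RGDTwE6.isCartan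
    Cfsg.Agent.Nodes.RGDTwE6.foldData
    (Cfsg.Agent.Nodes.RGDTwE6.foldGrp hφ hqq) 0 1
    (by
      intro k hk
      rw [Cfsg.Agent.Nodes.RGDTwE6.cls 0 k hk]
      show k ∈ [46] ↔ k ∈ [chevE6.simple 1]
      rw [simple_E6.1])
    (by
      intro k hk
      rw [Cfsg.Agent.Nodes.RGDTwE6.cls' 0 k hk]
      show k ∈ [25] ↔ k ∈ [chevE6.neg (chevE6.simple 1)]
      rw [simple_E6.1, simple_E6.2])
    φ
    (by
      show ∀ t : K, TwE6Basic.sg φ (Elts.xG _ (chevE6.simple 1) t) = Elts.xG _ (chevE6.simple 1) (φ t)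
      rw [simple_E6.1]
      exact hs 46 (by norm_num) (by decide +kernel))
    (by
      show ∀ t : K, TwE6Basic.sg φ (Elts.xG _ (chevE6.neg (chevE6.simple 1)) t) =
        Elts.xG _ (chevE6.neg (chevE6.simple 1)) (φ t)
      rw [simple_E6.1, simple_E6.2]
      exact hs 25 (by norm_num) (by decide +kernel)) p

end Cfsg.Agent.H428.NBL
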