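import Cfsg.Agent.H428.NBL.Chev
import Cfsg.Agent.H428.NBL.FoldHom
import Cfsg.Agent.KFacts.TwESix.Facts
import Cfsg.Agent.H249.PPTwD4
import Cfsg.Agent.ClosedExc.Rows
import Cfsg.Agent.S1070
import Cfsg.Agent.S1071
import Cfsg.Agent.H718.NBIH

/-!
# `NB p` for `³D₄(q)`, `²E₆(q)`, `q ≥ 3` or `p ≠ 3` (helper428)

`nb_big_3d4`, `nb_big_2e6`.
-/

set_option autoImplicit false
set_option linter.unusedSectionVars false

namespace Cfsg.Agent.H428.NBL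

open CoxeterSystem Cfsg.Agent.ChevalleyStructure.CoxeterGeom Cfsg.Agent.Tits.Roots Cfsg.Agent.Tits.Core
  Cfsg.Agent.Nodes.Reps Cfsg.Agent.Nodes.BNOf Cfsg.Agent.Nodes.Bruhat Cfsg.Agent.Nodes.Coroot
  Cfsg.Agent.KFacts.RgdTI Cfsg.Agent.H7.NBp
open Cfsg.Lie Cfsg.Agent.ChevalleyStructure
open Cfsg.Agent.OddHalf.LongSL.Fold (FF)

/-- the centre of a nonabelian simple group -/
theorem center_bot {G : Type*} [Group G] (hs : IsSimpleGroup G) (hna : ¬ IsMulCommutative G) :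
    Subgroup.center G = ⊥ := by
  rcases hs.eq_bot_or_eq_top_of_normal (Subgroup.center G) inferInstance with h | h
  · exact h
  · exact absurd ⟨⟨fun a b => (Subgroup.mem_center_iff.1 (by rw [h]; exact Subgroup.mem_top b : b ∈ _) a)⟩⟩ hna

/-- `X (w a) ⊔ X (- w a)` has the order of `X a ⊔ X (-a)` -/
theorem card_J_rep {I W : Type*} [Fintype I] [DecidableEq I] [Group W] {M : CoxeterMatrix I}
    {cs : CoxeterSystem M W} {A : I → I → ℤ} {h : IsCartan M A} {r : ℕ}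
    {Y : Type*} [Group Y] {T : Subgroup Y} {n : I → Y} {X : (I → ℤ) → Subgroup Y} (R : RGD cs h r T n X)
    {a : I → ℤ} (ha : IsRoot cs h a) (w : W) :
    Nat.card ↥(X (rep cs h w a) ⊔ X (-rep cs h w a)) = Nat.card ↥(X a ⊔ X (-a)) := by
  obtain ⟨m, hm⟩ := exists_rp cs R.nsys w
  rw [← R.conj_rp hm ha, ← map_neg, ← R.conj_rp hm ha.neg, ← cj_sup, Nodes.CardSup.card_cj]

section D4

variable {K : Type} [Field K] [Fintype K] {q : ℕ}

/-- the `SL₂(q³)` of the short root -/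
theorem hom_D4' (hK : Fintype.card K = q ^ 3) (hq : 2 ≤ q) {φ : K →+* K} (hφ : ∀ x, φ x = x ^ q) :
    ∃ ψ : Matrix.SpecialLinearGroup (Fin 2) K →* ↥(twistedD4 K q), (∀ g, ψ g = 1 → g = 1 ∨ g = -1) ∧
      ψ.range = Cfsg.Agent.Nodes.RGDTwD4.X φ q (sr 1) ⊔ Cfsg.Agent.Nodes.RGDTwD4.X φ q (-sr 1) := by
  have hle := D4Fixed.twisted_le_fix hK hφ
  let ψ : Matrix.SpecialLinearGroup (Fin 2) K →* ↥(twistedD4 K q) :=
    (ClosedExc.TwD4.psi1 φ).codRestrict _ (ClosedExc.TwD4.f1_mem hφ hle)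
  have hψ : ∀ g, (ψ g : GL chevD4.Idx K) = ClosedExc.TwD4.psi1 φ g := fun g => rfl
  have hr : ψ.range = Cfsg.Agent.Nodes.RGDTwD4.X φ q (sr 1) ⊔ Cfsg.Agent.Nodes.RGDTwD4.X φ q (-sr 1) := by
    refine range_sl ψ ?_ ?_ ?_ ?_
    · exact fun t => (ClosedExc.TwD4.mem_X1 hφ hle _).2 ⟨t, by rw [hψ, ClosedExc.TwD4.psi1_up]⟩
    · exact fun t => (ClosedExc.TwD4.mem_X1' hφ hle _).2 ⟨t, by rw [hψ, ClosedExc.TwD4.psi1_lo]⟩
    · intro u hu
      obtain ⟨t, ht⟩ := (ClosedExc.TwD4.mem_X1 hφ hle _).1 hu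
      exact ⟨t, Subtype.ext (by rw [hψ, ClosedExc.TwD4.psi1_up, ht])⟩
    · intro u hu
      obtain ⟨t, ht⟩ := (ClosedExc.TwD4.mem_X1' hφ hle _).1 hu
      exact ⟨t, Subtype.ext (by rw [hψ, ClosedExc.TwD4.psi1_lo, ht])⟩
  refine ⟨ψ, ?_, hr⟩
  -- `ψ` is not trivial
  obtain ⟨p, hp'⟩ := CharP.exists K
  have : Fact p.Prime := ⟨CharP.char_is_prime K p⟩
  have R := Cfsg.Agent.Nodes.RGDTwD4.rgd (CoxeterMatrix.G₂.toCoxeterSystem) hK hφ p
  have h1 := X_ne_bot R (isRoot_sr _ _ 1)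
  obtain ⟨⟨u, hu⟩, hu1⟩ := Subgroup.ne_bot_iff_exists_ne_one.1 h1
  obtain ⟨x, hx⟩ : u ∈ ψ.range := by rw [hr]; exact Subgroup.mem_sup_left hu
  refine ker_sl (x := x) ?_ ?_
  · rw [Nat.card_eq_fintype_card, hK]
    have : 2 ^ 3 ≤ q ^ 3 := Nat.pow_le_pow_left hq 3
    omega
  · intro h2
    rw [h2] at hx
    exact hu1 (Subtype.ext hx.symm)

theorem nb_big_3d4 {p : ℕ} [hpf : Fact p.Prime] (h2 : p ≠ 2) (r : ℕ) [Fact r.Prime] [CharP K r] (hpr : p ≠ r)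
    (hq : IsPrimePow q) (hK : Fintype.card K = q ^ 3) (hq3 : 3 ≤ q ∨ p ≠ 3)
    (ih : H718.NBIH.IH p (Nat.card ↥(twistedD4 K q))) : NB p ↥(twistedD4 K q) := by
  classical
  obtain ⟨φ, hφ⟩ := D4Fixed.exists_frob hq hK
  have hsim := S1071.result hq hK
  let cs := CoxeterMatrix.G₂.toCoxeterSystem
  have hW : Finite CoxeterMatrix.G₂.Group := H249.PPTwD4.finiteW cs
  have R := Cfsg.Agent.Nodes.RGDTwD4.rgd cs hK hφ r
  have L : LR (Cfsg.Agent.Nodes.RGDTwD4.rgd cs hK hφ r) H249.PPTwD4.z3 := H249.PPTwD4.lr3 hK hφ r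
  obtain ⟨ψ, hψ, hψr⟩ := hom_D4 hK hφ
  obtain ⟨θ, hθ, hθr⟩ := hom_D4' hK hq.two_le hφ
  have hfin : Fintype (FF φ) := Fintype.ofFinite _
  have hc : Nat.card (FF φ) = q := by
    rw [Nat.card_eq_fintype_card]
    exact OddHalf.LongSL.Tw.card_FF hq.two_le hK hφ
  have hchar : CharP (FF φ) r := inferInstance
  refine nb_rgd R h2 hpr L (b := sr 1) (isRoot_sr cs _ 1) ?_ (KFacts.RgdRigid.GG_eq_top (Cfsg.Agent.Nodes.RGDTwD4.G1_eq_top cs hK hφ))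
    (center_bot hsim.1 hsim.2) hψ ?_ ?_ (by rw [hc]; exact hq3) ?_
  · rw [H249.PPTwD4.cpr3 cs]
    rfl
  · rw [← H249.PPTwD4.rep3 cs, card_J_rep R (isRoot_sr cs _ 0), hψr]
  · rw [hc]
    intro hd
    rw [← hθr]
    refine dvd_range hθ hpf.out h2 ?_
    rw [Nat.card_eq_fintype_card, hK, ← pow_mul]
    have h3 : q ^ 2 - 1 ∣ (q ^ 2) ^ 3 - 1 := by
      simpa using Nat.sub_dvd_pow_sub_pow (q ^ 2) 1 3
    rw [← pow_mul] at h3
    exact hd.trans h3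
  · intro L' _ _ hs hna hl
    have := hs
    exact ih L' hna hl

end D4

section E6

variable {K : Type} [Field K] [Fintype K] {q : ℕ}

open Cfsg.Agent.KFacts.TwESix.Comb

theorem exists_orth_E6 : ∃ b ∈ rts, bf b b = 4 ∧ bf b (sr 0) = 0 := by decide +kernel

theorem nb_big_2e6 {p : ℕ} [hpf : Fact p.Prime] (h2 : p ≠ 2) (r : ℕ) [Fact r.Prime] [CharP K r] (hpr : p ≠ r)
    (hq : IsPrimePow q) (hK : Fintype.card K = q ^ 2) (hq3 : 3 ≤ q ∨ p ≠ 3)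
    (ih : H718.NBIH.IH p (Nat.card ↥(twistedE6 K q))) : NB p ↥(twistedE6 K q) := by
  classical
  obtain ⟨φ, hφ, hqq⟩ := TwE6Basic.exists_frob hq hK
  have hsim := S1070.result hq hK
  let cs := CoxeterMatrix.F₄.toCoxeterSystem
  have hW : Finite CoxeterMatrix.F₄.Group := finiteW cs
  have R := Cfsg.Agent.Nodes.RGDTwE6.rgd cs hφ hqq r
  have L : LR (Cfsg.Agent.Nodes.RGDTwE6.rgd cs hφ hqq r) (sr 0) :=
    KFacts.TwESix.Grp.lr_long cs hφ hqq r (isRoot_sr cs _ 0) sr_norm.1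
  obtain ⟨ψ, hψ, hψr⟩ := hom_E6 hφ hqq
  have hfin : Fintype (FF φ) := Fintype.ofFinite _
  have hc : Nat.card (FF φ) = q := by
    rw [Nat.card_eq_fintype_card]
    exact OddHalf.LongSL.Tw.card_FF hq.two_le hK hφ
  have hchar : CharP (FF φ) r := inferInstance
  obtain ⟨b, hb, hbb, hb0⟩ := exists_orth_E6
  have hbr := (mem_rts cs).2 hb
  refine nb_rgd R h2 hpr L (b := b) hbr ?_ (KFacts.RgdRigid.GG_eq_top (Cfsg.Agent.Nodes.RGDTwE6.G1_eq_top cs hφ hqq))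
    (center_bot hsim.1 hsim.2) hψ ?_ ?_ (by rw [hc]; exact hq3) ?_
  · have h1 := cpr_long cs b (isRoot_sr cs _ 0) sr_norm.1
    rw [hb0] at h1
    omega
  · rw [hψr]
  · intro hd
    obtain ⟨w, hw⟩ := exists_rep_long cs hbr hbb
    rw [← hw, card_J_rep R (isRoot_sr cs _ 0), ← hψr]
    exact dvd_range hψ hpf.out h2 hd
  · intro L' _ _ hs hna hl
    have := hs
    exact ih L' hna hl

end E6

end Cfsg.Agent.H428.NBL
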