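import Cfsg.Agent.TwoFusion.SLTwoFacts
import Cfsg.Agent.ChevalleyStructure.SL2Hom

/-!
# Homomorphisms of `SL₂(q)`, `q > 3` (helper428)

`ker_sl` : a homomorphism with `φ (up t) ≠ 1` has kernel in `{1, -1}`; `range_sl` : its range.
-/

set_option autoImplicit false

namespace Cfsg.Agent.H428.NBL

open Matrix Subgroup
open Cfsg.Agent.ChevalleyStructure

theorem ker_sl {F : Type*} [Field F] [Finite F] {Y : Type*} [Group Y] {φ : SpecialLinearGroup (Fin 2) F →* Y}
    (h3 : 3 < Nat.card F) {x : SpecialLinearGroup (Fin 2) F} (hx : φ x ≠ 1) : ∀ g, φ g = 1 → g = 1 ∨ g = -1 := by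
  classical
  have : Fintype F := Fintype.ofFinite F
  rw [Nat.card_eq_fintype_card] at h3
  have hs := TwoFusion.SLTwoFacts.isSimpleGroup_psl h3
  have hper := TwoFusion.SLTwoFacts.commutator_eq_top h3
  let π := QuotientGroup.mk' (center (SpecialLinearGroup (Fin 2) F))
  have hker : φ.ker ≤ center (SpecialLinearGroup (Fin 2) F) := by
    have hn : (φ.ker.map π).Normal := Subgroup.Normal.map inferInstance _ (QuotientGroup.mk'_surjective _)
    rcases hs.eq_bot_or_eq_top_of_normal (φ.ker.map π) hn with h | h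
    · rw [Subgroup.map_eq_bot_iff, QuotientGroup.ker_mk'] at h
      exact h
    · exfalso
      -- the range is abelian
      have h1 : ∀ g, ∃ z ∈ center (SpecialLinearGroup (Fin 2) F), φ g = φ z := by
        intro g
        have h2 : π g ∈ φ.ker.map π := by rw [h]; exact Subgroup.mem_top _
        obtain ⟨k, hk, e⟩ := h2
        refine ⟨k⁻¹ * g, ?_, ?_⟩
        · rw [← QuotientGroup.ker_mk' (center (SpecialLinearGroup (Fin 2) F)), MonoidHom.mem_ker]
          show π (k⁻¹ * g) = 1
          rw [map_mul, map_inv, e, inv_mul_cancel]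
        · rw [map_mul, map_inv, MonoidHom.mem_ker.1 hk, inv_one, one_mul]
      have h2 : commutator (SpecialLinearGroup (Fin 2) F) ≤ φ.ker := by
        rw [commutator_def, Subgroup.commutator_le]
        intro a _ b _
        obtain ⟨z, hz, e⟩ := h1 a
        rw [MonoidHom.mem_ker, commutatorElement_def, map_mul, map_mul, map_mul, map_inv, map_inv, e, ← map_mul,
          ← (Subgroup.mem_center_iff.1 hz b), map_mul]
        group
      rw [hper] at h2
      exact hx (MonoidHom.mem_ker.1 (h2 (Subgroup.mem_top x)))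
  intro g hg
  have h1 := hker (MonoidHom.mem_ker.2 hg)
  rw [Matrix.SpecialLinearGroup.mem_center_iff] at h1
  obtain ⟨r, hr, e⟩ := h1
  rw [Fintype.card_fin] at hr
  rcases mul_self_eq_one_iff.1 ((pow_two _).symm.trans hr) with h | h
  · left
    apply Subtype.ext
    rw [← e, h, map_one]
    rfl
  · right
    apply Subtype.ext
    rw [← e, h, map_neg, map_one]
    rfl

theorem range_sl {F : Type*} [Field F] {Y : Type*} [Group Y] (φ : SpecialLinearGroup (Fin 2) F →* Y)
    {A B : Subgroup Y} (h1 : ∀ t, φ (SL2Hom.up t) ∈ A) (h2 : ∀ t, φ (SL2Hom.lo t) ∈ B)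
    (h3 : ∀ u ∈ A, ∃ t, u = φ (SL2Hom.up t)) (h4 : ∀ u ∈ B, ∃ t, u = φ (SL2Hom.lo t)) : φ.range = A ⊔ B := by
  apply le_antisymm
  · rw [MonoidHom.range_eq_map, Subgroup.map_le_iff_le_comap]
    intro g _
    refine (Subgroup.closure_le _).2 ?_ (SL2Hom.mem_closure_SL2 g)
    rintro x (⟨t, rfl⟩ | ⟨t, rfl⟩)
    · exact Subgroup.mem_sup_left (h1 t)
    · exact Subgroup.mem_sup_right (h2 t)
  · refine sup_le ?_ ?_
    · intro u hu
      obtain ⟨t, ht⟩ := h3 u hu
      exact ⟨SL2Hom.up t, ht.symm⟩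
    · intro u hu
      obtain ⟨t, ht⟩ := h4 u hu
      exact ⟨SL2Hom.lo t, ht.symm⟩

end Cfsg.Agent.H428.NBL
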