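import Cfsg.Agent.KFacts.RgdTI
import Cfsg.Agent.Nodes.PosPair
import Cfsg.Agent.Nodes.CardSup
import Cfsg.Agent.H7.NBpCount

/-!
# The long root elements in the counting criterion for `p`-blocks (helper428, hub S5003)

`R` a root group datum in characteristic `r`, `a` a root with `LR R a` (long roots), `p ≠ r` a prime which does not divide
the order of `⟨X a, X (-a)⟩`, `GG = ⊤`.

* `uniq` : `1 ≠ s ∈ X a`, `k` conjugate to an element of `X a`, `s k⁻¹` a `p`-element : `k = s`;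
* `nb` : more than one `p`-block.
-/

set_option autoImplicit false
set_option linter.unusedSectionVars false

namespace Cfsg.Agent.H428.NBL

open CoxeterSystem Cfsg.Agent.ChevalleyStructure.CoxeterGeom Cfsg.Agent.Tits.Roots Cfsg.Agent.Tits.Core
  Cfsg.Agent.Tits.RootComb Cfsg.Agent.Tits.Exchange Cfsg.Agent.Nodes.Reps Cfsg.Agent.Nodes.BNOf
  Cfsg.Agent.Nodes.StabComb Cfsg.Agent.Nodes.Bruhat Cfsg.Agent.Nodes.OppDec Cfsg.Agent.Nodes.LeviDec
  Cfsg.Agent.Nodes.NormX Cfsg.Agent.Nodes.Coroot Cfsg.Agent.KFacts.RgdPar Cfsg.Agent.KFacts.RgdSL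
  Cfsg.Agent.KFacts.RgdTI Cfsg.Agent.H7.NBp Cfsg.Agent.Nodes.PosPair

variable {I W Y : Type*} [Fintype I] [DecidableEq I] [Group W] [Group Y] {M : CoxeterMatrix I}
  {cs : CoxeterSystem M W} {A : I → I → ℤ} {h : IsCartan M A} {r : ℕ} {T : Subgroup Y} {n : I → Y}
  {X : (I → ℤ) → Subgroup Y}

/-- the conjugates of the elements `≠ 1` of `X a` -/
def Kset (X : (I → ℤ) → Subgroup Y) (a : I → ℤ) : Set Y := {k | ∃ g : Y, ∃ z ∈ X a, z ≠ 1 ∧ k = g * z * g⁻¹}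

theorem Kset_conj (a : I → ℤ) (g : Y) (k : Y) (hk : k ∈ Kset X a) : g * k * g⁻¹ ∈ Kset X a := by
  obtain ⟨x, z, hz, hz1, rfl⟩ := hk
  exact ⟨g * x, z, hz, hz1, by group⟩

theorem mem_Kset {a : I → ℤ} {s : Y} (hs : s ∈ X a) (hs1 : s ≠ 1) : s ∈ Kset X a := ⟨1, s, hs, hs1, by group⟩

theorem isPGroup_X (R : RGD cs h r T n X) {b : I → ℤ} (hb : IsRoot cs h b) : IsPGroup r ↥(X b) := by
  obtain ⟨w, i, rfl⟩ := hb
  obtain ⟨k, hk⟩ := exists_rp cs R.nsys w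
  rw [← R.conj_rp hk (isRoot_sr cs h i)]
  exact (R.pgrp i).map _

/-- an element of coprime order with `x ^ p ^ j = 1` is trivial -/
theorem eq_one_of_pow {p : ℕ} [hp : Fact p.Prime] {x : Y} {H : Subgroup Y} [Finite H] (hx : x ∈ H)
    (hH : ¬ p ∣ Nat.card H) {j : ℕ} (hj : x ^ p ^ j = 1) : x = 1 := by
  have h1 : orderOf x ∣ p ^ j := orderOf_dvd_of_pow_eq_one hj
  have h2 : orderOf x ∣ Nat.card H := by
    have := orderOf_dvd_natCard (⟨x, hx⟩ : H)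
    rwa [Subgroup.orderOf_mk] at this
  have h3 : Nat.Coprime (p ^ j) (Nat.card H) := Nat.Coprime.pow_left j ((Nat.Prime.coprime_iff_not_dvd hp.out).2 hH)
  exact orderOf_eq_one_iff.1 (Nat.eq_one_of_dvd_coprimes h3 h1 h2)

theorem eq_one_of_pGroup {p : ℕ} [hp : Fact p.Prime] [hr : Fact r.Prime] (hpr : p ≠ r) {x : Y} {H : Subgroup Y}
    (hH : IsPGroup r H) (hx : x ∈ H) {j : ℕ} (hj : x ^ p ^ j = 1) : x = 1 := by
  obtain ⟨k, hk⟩ := hH ⟨x, hx⟩
  have hk' : x ^ r ^ k = 1 := by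
    have := congrArg Subtype.val hk
    simpa using this
  have h1 : orderOf x ∣ p ^ j := orderOf_dvd_of_pow_eq_one hj
  have h2 : orderOf x ∣ r ^ k := orderOf_dvd_of_pow_eq_one hk'
  have h3 : Nat.Coprime (p ^ j) (r ^ k) := Nat.Coprime.pow _ _ ((Nat.coprime_primes hp.out hr.out).2 hpr)
  exact orderOf_eq_one_iff.1 (Nat.eq_one_of_dvd_coprimes h3 h1 h2)

/-- The case `a` dominant. -/
theorem uniq_dom [Finite W] [Finite Y] (R : RGD cs h r T n X) {p : ℕ} [hp : Fact p.Prime] [hr : Fact r.Prime]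
    (hpr : p ≠ r) {a : I → ℤ} (L : LR R a) (hd : ∀ i, 0 ≤ cpr cs h (sr i) a)
    (hG : GG cs h T X = ⊤) (hJ : ¬ p ∣ Nat.card ↥(X a ⊔ X (-a))) {s k : Y} (hs : s ∈ X a) (hs1 : s ≠ 1)
    (hk : k ∈ Kset X a) {j : ℕ} (hj : (s * k⁻¹) ^ p ^ j = 1) : k = s := by
  obtain ⟨g, z, hz, hz1, rfl⟩ := hk
  -- `B` normalises `X a`
  have hBn : ∀ b ∈ RGD.B cs h T X, ∀ v ∈ X a, b * v * b⁻¹ ∈ X a := by
    intro b hb v hv
    have hle : RGD.B cs h T X ≤ PS T X (Ge cs h a) := by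
      have h1 : PS T X (Ge cs h a) = PJ cs h T X {i | ell cs h L.root (sr i) = 0} :=
        PS_half_of_dom (f := ell cs h L.root) hd
      rw [h1]; exact B_le_PJ
    exact (Subgroup.mem_normalizer_iff.1 (L.PS_le_normalizer (hle hb)) v).1 hv
  have hg : g ∈ GG cs h T X := by rw [hG]; exact Subgroup.mem_top g
  obtain ⟨w, b₁, hb₁, m, hm, b₂, hb₂, rfl⟩ := (mem_GG R).1 hg
  set z' : Y := m * (b₂ * z * b₂⁻¹) * m⁻¹ with hz'
  have hz'm : z' ∈ X (rep cs h w a) := R.conj_mem hm L.root (hBn b₂ hb₂ z hz)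
  set s' : Y := b₁⁻¹ * s * b₁ with hs'
  have hs'm : s' ∈ X a := by
    have := hBn b₁⁻¹ (inv_mem hb₁) s hs
    rwa [inv_inv] at this
  have hs'1 : s' ≠ 1 := by
    intro h0
    apply hs1
    have : s = b₁ * s' * b₁⁻¹ := by rw [hs']; group
    rw [this, h0]; group
  have e1 : s * (b₁ * m * b₂ * z * (b₁ * m * b₂)⁻¹)⁻¹ = b₁ * (s' * z'⁻¹) * b₁⁻¹ := by
    rw [hs', hz']; group
  have hj' : (s' * z'⁻¹) ^ p ^ j = 1 := by
    rw [e1, conj_pow] at hj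
    have : (s' * z'⁻¹) ^ p ^ j = b₁⁻¹ * (b₁ * (s' * z'⁻¹) ^ p ^ j * b₁⁻¹) * b₁ := by group
    rw [this, hj]; group
  have key : s' * z'⁻¹ = 1 := by
    by_cases hwa : rep cs h w a = -a
    · refine eq_one_of_pow (H := X a ⊔ X (-a)) ?_ hJ hj'
      rw [hwa] at hz'm
      exact mul_mem ((le_sup_left : X a ≤ X a ⊔ X (-a)) hs'm) (inv_mem ((le_sup_right : X (-a) ≤ X a ⊔ X (-a)) hz'm))
    · have hne : a ≠ -(rep cs h w a) := fun h0 => hwa (neg_eq_iff_eq_neg.1 h0.symm)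
      obtain ⟨v, hv1, hv2⟩ := exists_pos_pair (cs := cs) (h := h) L.root (L.root.act w) hne
      refine eq_one_of_pGroup hpr (H := RGD.Sup X {a, rep cs h w a}) (isPGroup_of_rep R v ?_) ?_ hj'
      · rintro x (rfl | hx)
        · exact ⟨L.root, hv1⟩
        · rw [Set.mem_singleton_iff] at hx
          subst hx
          exact ⟨L.root.act w, hv2⟩
      · exact mul_mem (RGD.le_Sup (S := {a, rep cs h w a}) (Or.inl rfl) hs'm)
          (inv_mem (RGD.le_Sup (S := {a, rep cs h w a}) (Or.inr rfl) hz'm))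
  rw [key, mul_one, mul_inv_cancel] at e1
  exact (mul_inv_eq_one.1 e1).symm

/-- **Uniqueness**: `1 ≠ s ∈ X a`, `k` conjugate to an element of `X a`, `s k⁻¹` a `p`-element : `k = s`. -/
theorem uniq [Finite W] [Finite Y] (R : RGD cs h r T n X) {p : ℕ} [hp : Fact p.Prime] [hr : Fact r.Prime]
    (hpr : p ≠ r) {a : I → ℤ} (L : LR R a) (hG : GG cs h T X = ⊤) (hJ : ¬ p ∣ Nat.card ↥(X a ⊔ X (-a))) {s k : Y}
    (hs : s ∈ X a) (hs1 : s ≠ 1) (hk : k ∈ Kset X a) {j : ℕ} (hj : (s * k⁻¹) ^ p ^ j = 1) : k = s := by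
  obtain ⟨w, hw⟩ := L.exists_dominant
  obtain ⟨m, hm⟩ := exists_rp cs R.nsys w
  have e1 : cj m (X a) = X (rep cs h w a) := R.conj_rp hm L.root
  have e2 : cj m (X (-a)) = X (-rep cs h w a) := by
    rw [R.conj_rp hm L.root.neg, map_neg]
  have hJ' : ¬ p ∣ Nat.card ↥(X (rep cs h w a) ⊔ X (-rep cs h w a)) := by
    rw [← e1, ← e2, ← cj_sup, Nodes.CardSup.card_cj]
    exact hJ
  have h1 := uniq_dom R hpr (L.act w) hw hG hJ' (s := m * s * m⁻¹) (k := m * k * m⁻¹) (j := j)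
    (R.conj_mem hm L.root hs) ?_ ?_ ?_
  · have : m⁻¹ * (m * k * m⁻¹) * m = m⁻¹ * (m * s * m⁻¹) * m := by rw [h1]
    have e3 : k = m⁻¹ * (m * k * m⁻¹) * m := by group
    rw [e3, this]; group
  · intro h0
    apply hs1
    have e3 : s = m⁻¹ * (m * s * m⁻¹) * m := by group
    rw [e3, h0]; group
  · obtain ⟨g, z, hz, hz1, rfl⟩ := hk
    refine ⟨m * g * m⁻¹, m * z * m⁻¹, R.conj_mem hm L.root hz, ?_, by group⟩
    intro h0
    apply hz1
    have e3 : z = m⁻¹ * (m * z * m⁻¹) * m := by group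
    rw [e3, h0]; group
  · have e3 : m * s * m⁻¹ * (m * k * m⁻¹)⁻¹ = m * (s * k⁻¹) * m⁻¹ := by group
    rw [e3, conj_pow, hj]; group

/-- **More than one `p`-block** from the long root elements. -/
theorem nb [Finite W] [Finite Y] (R : RGD cs h r T n X) {p : ℕ} [hp : Fact p.Prime] [hr : Fact r.Prime]
    (hpr : p ≠ r) {a : I → ℤ} (L : LR R a) (hG : GG cs h T X = ⊤) (hJ : ¬ p ∣ Nat.card ↥(X a ⊔ X (-a))) :
    NB p Y := by
  obtain ⟨⟨s, hs⟩, hs1⟩ := (Subgroup.ne_bot_iff_exists_ne_one).1 (X_ne_bot R L.root)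
  have hs1' : s ≠ 1 := fun h0 => hs1 (Subtype.ext h0)
  refine NB.of_unique (K := Kset X a) (Kset_conj a) (g := s) ?_ (mem_Kset hs hs1')
    (fun k hk j hj => uniq R hpr L hG hJ hs hs1' hk hj)
  rintro ⟨j, hj⟩
  exact hs1' (eq_one_of_pGroup hpr (isPGroup_X R L.root) hs hj)

end Cfsg.Agent.H428.NBL
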