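import Cfsg.Agent.H428.NBL.Eng
import Cfsg.Agent.H428.NBL.Ind

/-!
# Long root subgroups centralise the `p`-subgroups they normalise (helper116's lemma LX, helper428)

`R` a root group datum in characteristic `r`, `LR R a`, `p ≠ r`, and `J = ⟨X a, X (-a)⟩` has order prime to `p` or
divisible by a prime `≠ p, r`.

* `pair` : `⟨X a, g (X a) g⁻¹⟩` is an `r`-group or conjugate to `J`;
* `cent_of_norm` : `X a` centralises every `p`-subgroup it normalises;
* `nb_LX` : `NB p Y` from `IH`, if `p` divides `|C(X a)|`.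
-/

set_option autoImplicit false
set_option linter.unusedSectionVars false

namespace Cfsg.Agent.H428.NBL

open CoxeterSystem Cfsg.Agent.ChevalleyStructure.CoxeterGeom Cfsg.Agent.Tits.Roots Cfsg.Agent.Tits.Core
  Cfsg.Agent.Tits.RootComb Cfsg.Agent.Tits.Exchange Cfsg.Agent.Nodes.Reps Cfsg.Agent.Nodes.BNOf
  Cfsg.Agent.Nodes.StabComb Cfsg.Agent.Nodes.Bruhat Cfsg.Agent.Nodes.OppDec Cfsg.Agent.Nodes.LeviDec
  Cfsg.Agent.Nodes.NormX Cfsg.Agent.Nodes.Coroot Cfsg.Agent.KFacts.RgdPar Cfsg.Agent.KFacts.RgdSL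
  Cfsg.Agent.KFacts.RgdTI Cfsg.Agent.H7.NBp Cfsg.Agent.Nodes.PosPair

universe u

variable {I W Y : Type*} [Fintype I] [DecidableEq I] [Group W] [Group Y] {M : CoxeterMatrix I}
  {cs : CoxeterSystem M W} {A : I → I → ℤ} {h : IsCartan M A} {r : ℕ} {T : Subgroup Y} {n : I → Y}
  {X : (I → ℤ) → Subgroup Y}

theorem pair_dom [Finite W] (R : RGD cs h r T n X) {a : I → ℤ} (L : LR R a) (hd : ∀ i, 0 ≤ cpr cs h (sr i) a)
    {g : Y} (hg : g ∈ GG cs h T X) :
    IsPGroup r ↥(X a ⊔ cj g (X a)) ∨ ∃ c, X a ⊔ cj g (X a) = cj c (X a ⊔ X (-a)) := by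
  -- `B` normalises `X a`
  have hBn : ∀ b ∈ RGD.B cs h T X, cj b (X a) = X a := by
    intro b hb
    have hle : RGD.B cs h T X ≤ PS T X (Ge cs h a) := by
      have h1 : PS T X (Ge cs h a) = PJ cs h T X {i | ell cs h L.root (sr i) = 0} :=
        PS_half_of_dom (f := ell cs h L.root) hd
      rw [h1]; exact B_le_PJ
    exact (mem_normalizer_iff_cj).1 (L.PS_le_normalizer (hle hb))
  obtain ⟨w, b₁, hb₁, m, hm, b₂, hb₂, rfl⟩ := (mem_GG R).1 hg
  have e1 : X a ⊔ cj (b₁ * m * b₂) (X a) = cj b₁ (X a ⊔ X (rep cs h w a)) := by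
    rw [cj_mul, cj_mul, hBn b₂ hb₂, R.conj_rp hm L.root, cj_sup, hBn b₁ hb₁]
  rw [e1]
  by_cases hwa : rep cs h w a = -a
  · right
    exact ⟨b₁, by rw [hwa]⟩
  · left
    have hne : a ≠ -(rep cs h w a) := fun h0 => hwa (neg_eq_iff_eq_neg.1 h0.symm)
    obtain ⟨v, hv1, hv2⟩ := exists_pos_pair (cs := cs) (h := h) L.root (L.root.act w) hne
    have h1 : IsPGroup r ↥(RGD.Sup X {a, rep cs h w a}) := by
      refine isPGroup_of_rep R v ?_
      rintro x (rfl | hx)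
      · exact ⟨L.root, hv1⟩
      · rw [Set.mem_singleton_iff] at hx
        subst hx
        exact ⟨L.root.act w, hv2⟩
    have h2 : IsPGroup r ↥(X a ⊔ X (rep cs h w a)) := h1.to_le
      (sup_le (RGD.le_Sup (S := {a, rep cs h w a}) (Or.inl rfl)) (RGD.le_Sup (S := {a, rep cs h w a}) (Or.inr rfl)))
    exact h2.map _

theorem pair [Finite W] (R : RGD cs h r T n X) {a : I → ℤ} (L : LR R a) {g : Y} (hg : g ∈ GG cs h T X) :
    IsPGroup r ↥(X a ⊔ cj g (X a)) ∨ ∃ c, X a ⊔ cj g (X a) = cj c (X a ⊔ X (-a)) := by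
  obtain ⟨w, hw⟩ := L.exists_dominant
  obtain ⟨m, hm⟩ := exists_rp cs R.nsys w
  have hmG : m ∈ GG cs h T X := NN_le_GG R ⟨w, hm⟩
  have e1 : cj m (X a) = X (rep cs h w a) := R.conj_rp hm L.root
  have e2 : cj m (X (-a)) = X (-rep cs h w a) := by
    rw [R.conj_rp hm L.root.neg, map_neg]
  have e3 : cj m (X a ⊔ cj g (X a)) = X (rep cs h w a) ⊔ cj (m * g * m⁻¹) (X (rep cs h w a)) := by
    rw [cj_sup, e1, ← e1, ← cj_mul, ← cj_mul, inv_mul_cancel_right]
  have e4 : X a ⊔ cj g (X a) = cj m⁻¹ (cj m (X a ⊔ cj g (X a))) := by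
    rw [← cj_mul, inv_mul_cancel, cj_one]
  have hg' : m * g * m⁻¹ ∈ GG cs h T X := mul_mem (mul_mem hmG hg) (inv_mem hmG)
  rcases pair_dom R (L.act w) hw hg' with h1 | ⟨c, h1⟩
  · left
    rw [e4, e3]
    exact h1.map _
  · right
    refine ⟨m⁻¹ * c * m, ?_⟩
    rw [e4, e3, h1, cj_mul, cj_mul, cj_sup m, e1, e2]

/-- `J` has order prime to `p` or divisible by a third prime -/
def JOK (p r : ℕ) (J : Subgroup Y) : Prop :=
  ¬ p ∣ Nat.card J ∨ ∃ l : ℕ, l.Prime ∧ l ≠ p ∧ l ≠ r ∧ l ∣ Nat.card J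

/-- **`X a` centralises every `p`-subgroup it normalises.** -/
theorem cent_of_norm [Finite W] [Finite Y] (R : RGD cs h r T n X) {p : ℕ} [hp : Fact p.Prime] [hr : Fact r.Prime]
    (hpr : p ≠ r) {a : I → ℤ} (L : LR R a) (hG : GG cs h T X = ⊤) (hJ : JOK p r (X a ⊔ X (-a)))
    {P : Subgroup Y} (hP : IsPGroup p P) (hn : ∀ z ∈ X a, ∀ g ∈ P, z * g * z⁻¹ ∈ P) :
    ∀ g ∈ P, ∀ z ∈ X a, z * g = g * z := by
  intro g hg z hz
  -- the commutator is in `P` and in `⟨X a, g X a g⁻¹⟩`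
  have h1 : z * g * z⁻¹ * g⁻¹ ∈ P := mul_mem (hn z hz g hg) (inv_mem hg)
  have h2 : z * g * z⁻¹ * g⁻¹ ∈ X a ⊔ cj g (X a) := by
    have e : z * g * z⁻¹ * g⁻¹ = z * (g * z⁻¹ * g⁻¹) := by group
    rw [e]
    exact mul_mem ((le_sup_left : X a ≤ _) hz) ((le_sup_right : cj g (X a) ≤ _) (conj_mem_cj.2 (inv_mem hz)))
  obtain ⟨k, hk⟩ := hP ⟨_, h1⟩
  have hk' : (z * g * z⁻¹ * g⁻¹) ^ p ^ k = 1 := by
    have := congrArg Subtype.val hk
    simpa using this
  have key : z * g * z⁻¹ * g⁻¹ = 1 := by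
    rcases pair R L (g := g) (by rw [hG]; exact Subgroup.mem_top g) with h3 | ⟨c, h3⟩
    · exact eq_one_of_pGroup hpr h3 h2 hk'
    · rcases hJ with hJ | ⟨l, hl, hlp, hlr, hlJ⟩
      · refine eq_one_of_pow (H := X a ⊔ cj g (X a)) h2 ?_ hk'
        rw [h3, Nodes.CardSup.card_cj]
        exact hJ
      · exfalso
        -- an element of order `l` in `⟨X a, g X a g⁻¹⟩`
        have hl' : Fact l.Prime := ⟨hl⟩
        have h4 : l ∣ Nat.card ↥(X a ⊔ cj g (X a)) := by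
          rw [h3, Nodes.CardSup.card_cj]
          exact hlJ
        obtain ⟨⟨y, hy⟩, hyo⟩ := exists_prime_orderOf_dvd_card' l h4
        rw [Subgroup.orderOf_mk] at hyo
        -- `X a P` is a subgroup
        let H : Subgroup Y :=
          { carrier := {y | ∃ v ∈ X a, ∃ t ∈ P, y = v * t}
            one_mem' := ⟨1, one_mem _, 1, one_mem _, by group⟩
            mul_mem' := by
              rintro _ _ ⟨v, hv, t, ht, rfl⟩ ⟨v', hv', t', ht', rfl⟩
              refine ⟨v * v', mul_mem hv hv', (v'⁻¹ * t * v') * t', mul_mem ?_ ht', by group⟩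
              have := hn v'⁻¹ (inv_mem hv') t ht
              rwa [inv_inv] at this
            inv_mem' := by
              rintro _ ⟨v, hv, t, ht, rfl⟩
              exact ⟨v⁻¹, inv_mem hv, v * t⁻¹ * v⁻¹, hn v hv _ (inv_mem ht), by group⟩ }
        have hle : X a ⊔ cj g (X a) ≤ H := by
          refine sup_le (fun v hv => ⟨v, hv, 1, one_mem _, by group⟩) ?_
          intro v hv
          obtain ⟨v', hv', rfl⟩ := hv
          refine ⟨v', hv', v'⁻¹ * (g * v' * g⁻¹), ?_, ?_⟩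
          · have h5 := hn v'⁻¹ (inv_mem hv') g hg
            rw [inv_inv] at h5
            have e : v'⁻¹ * (g * v' * g⁻¹) = (v'⁻¹ * g * v') * g⁻¹ := by group
            rw [e]
            exact mul_mem h5 (inv_mem hg)
          · show g * v' * g⁻¹ = _
            group
        obtain ⟨v, hv, t, ht, hyv⟩ := hle hy
        -- powers
        have hpow : ∀ m : ℕ, ∃ t' ∈ P, (v * t) ^ m = v ^ m * t' := by
          intro m
          induction m with
          | zero => exact ⟨1, one_mem _, by group⟩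
          | succ m ih =>
            obtain ⟨t', ht', e⟩ := ih
            refine ⟨(v⁻¹ * t' * v) * t, mul_mem ?_ ht, ?_⟩
            · have := hn v⁻¹ (inv_mem hv) t' ht'
              rwa [inv_inv] at this
            · rw [pow_succ, e, pow_succ]; group
        obtain ⟨k₁, hk₁⟩ := (isPGroup_X R L.root) ⟨v, hv⟩
        have hv1 : v ^ r ^ k₁ = 1 := by
          have := congrArg Subtype.val hk₁
          simpa using this
        obtain ⟨t', ht', e⟩ := hpow (r ^ k₁)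
        rw [hv1, one_mul, ← hyv] at e
        obtain ⟨k₂, hk₂⟩ := hP ⟨t', ht'⟩
        have hk₂' : t' ^ p ^ k₂ = 1 := by
          have := congrArg Subtype.val hk₂
          simpa using this
        have h6 : y ^ (r ^ k₁ * p ^ k₂) = 1 := by rw [pow_mul, e, hk₂']
        have h7 : l ∣ r ^ k₁ * p ^ k₂ := by
          rw [← hyo]; exact orderOf_dvd_of_pow_eq_one h6
        rcases (Nat.Prime.dvd_mul hl).1 h7 with h8 | h8
        · exact hlr ((Nat.prime_dvd_prime_iff_eq hl hr.out).1 (hl.dvd_of_dvd_pow h8))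
        · exact hlp ((Nat.prime_dvd_prime_iff_eq hl hp.out).1 (hl.dvd_of_dvd_pow h8))
  have e : z * g = (z * g * z⁻¹ * g⁻¹) * (g * z) := by group
  rw [e, key, one_mul]

/-- **`NB p Y` by induction** from a non-central `p`-element commuting with `X a`. -/
theorem nb_LX {Y : Type u} [Group Y] {T : Subgroup Y} {n : I → Y} {X : (I → ℤ) → Subgroup Y} [Finite W] [Finite Y]
    (R : RGD cs h r T n X) {p : ℕ} [hp : Fact p.Prime] [hr : Fact r.Prime]
    (hpr : p ≠ r) {a : I → ℤ} (L : LR R a) (hG : GG cs h T X = ⊤) (hJ : JOK p r (X a ⊔ X (-a)))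
    (ih : IH.{u} p (Nat.card Y)) {x : Y} (hx : ∃ k : ℕ, x ^ p ^ k = 1) (hxc : ∃ g : Y, g * x ≠ x * g)
    (hXx : ∀ z ∈ X a, z * x = x * z) : NB p Y := by
  refine nb_of_sub ih hx hxc (H := X a) hXx (X_ne_bot R L.root) ?_
    fun P hP _ _ hn => cent_of_norm R hpr L hG hJ hP hn
  intro h1
  obtain ⟨k, hk⟩ := IsPGroup.iff_card.1 (isPGroup_X R L.root)
  rw [hk] at h1
  exact hpr ((Nat.prime_dvd_prime_iff_eq hp.out hr.out).1 (hp.out.dvd_of_dvd_pow h1))

/-- `NB p Y` by induction, if `p` divides `|C(X a)|` and `Z(Y) = 1`. -/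
theorem nb_LX' {Y : Type u} [Group Y] {T : Subgroup Y} {n : I → Y} {X : (I → ℤ) → Subgroup Y} [Finite W] [Finite Y]
    (R : RGD cs h r T n X) {p : ℕ} [hp : Fact p.Prime] [hr : Fact r.Prime]
    (hpr : p ≠ r) {a : I → ℤ} (L : LR R a) (hG : GG cs h T X = ⊤) (hJ : JOK p r (X a ⊔ X (-a)))
    (ih : IH.{u} p (Nat.card Y)) (hZ : Subgroup.center Y = ⊥)
    (hc : p ∣ Nat.card ↥(Subgroup.centralizer (X a : Set Y))) : NB p Y := by
  obtain ⟨⟨x, hx⟩, hxo⟩ := exists_prime_orderOf_dvd_card' p hc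
  rw [Subgroup.orderOf_mk] at hxo
  refine nb_LX R hpr L hG hJ ih (x := x) ⟨1, by rw [pow_one, ← hxo]; exact pow_orderOf_eq_one x⟩ ?_
    (fun z hz => Subgroup.mem_centralizer_iff.1 hx z hz)
  by_contra hcon
  push Not at hcon
  have h1 : x ∈ Subgroup.center Y := Subgroup.mem_center_iff.2 hcon
  rw [hZ, Subgroup.mem_bot] at h1
  rw [h1, orderOf_one] at hxo
  exact hp.out.one_lt.ne hxo

/-- `NB p Y` by induction, if `p` divides `|⟨X b, X (-b)⟩|` for a root `b` orthogonal to `a`, and `Z(Y) = 1`. -/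
theorem nb_orth {Y : Type u} [Group Y] {T : Subgroup Y} {n : I → Y} {X : (I → ℤ) → Subgroup Y} [Finite W] [Finite Y]
    (R : RGD cs h r T n X) {p : ℕ} [hp : Fact p.Prime] [hr : Fact r.Prime]
    (hpr : p ≠ r) {a b : I → ℤ} (L : LR R a) (hb : IsRoot cs h b) (hab : cpr cs h b a = 0)
    (hG : GG cs h T X = ⊤) (hJ : JOK p r (X a ⊔ X (-a))) (ih : IH.{u} p (Nat.card Y)) (hZ : Subgroup.center Y = ⊥)
    (hc : p ∣ Nat.card ↥(X b ⊔ X (-b))) : NB p Y := by
  refine nb_LX' R hpr L hG hJ ih hZ (hc.trans (Subgroup.card_dvd_of_le (sup_le ?_ ?_)))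
  · intro u hu
    rw [Subgroup.mem_centralizer_iff]
    intro v hv
    exact (L.comm b hb (by rw [hab]) u hu v hv).symm
  · intro u hu
    rw [Subgroup.mem_centralizer_iff]
    intro v hv
    exact (L.comm (-b) hb.neg (by rw [cpr_neg_left _ L.root, hab, neg_zero]) u hu v hv).symm

end Cfsg.Agent.H428.NBL
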