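import Cfsg.Agent.S0276
import Cfsg.Agent.H428.NBL.LX

/-!
# The order of the image of `SL₂(q)` (helper428)

`φ : SL₂(F) → Y` with kernel in `{1, -1}`.

* `card_range` : `|φ.range| * c = q (q² - 1)`, `c = 1` or (`q` odd and) `c = 2`;
* `jok` : `JOK p r φ.range` for `q ≥ 3`, `p` odd;
* `dvd_range` : `p ∣ |φ.range|` if `p` is odd and divides `q² - 1`;
* `not_dvd_range` : `¬ p ∣ |φ.range|` if `¬ p ∣ q² - 1`.
-/

set_option autoImplicit false

namespace Cfsg.Agent.H428.NBL

open Matrix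

variable {F : Type*} [Field F] [Finite F] {Y : Type*} [Group Y] {φ : SpecialLinearGroup (Fin 2) F →* Y}

theorem card_range (hk : ∀ g, φ g = 1 → g = 1 ∨ g = -1) :
    ∃ c : ℕ, Nat.card φ.range * c = Nat.card F * (Nat.card F ^ 2 - 1) ∧ (c = 1 ∨ c = 2 ∧ Odd (Nat.card F)) := by
  classical
  have : Fintype F := Fintype.ofFinite F
  have h1 : Nat.card φ.range * Nat.card φ.ker = Nat.card (SpecialLinearGroup (Fin 2) F) := by
    rw [← Subgroup.index_ker, mul_comm, Subgroup.card_mul_index]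
  have h2 : Nat.card (SpecialLinearGroup (Fin 2) F) = Nat.card F * (Nat.card F ^ 2 - 1) :=
    S0276.card_sl_two (by rw [Nat.card_eq_fintype_card])
  refine ⟨Nat.card φ.ker, h1.trans h2, ?_⟩
  have h3 : (φ.ker : Set (SpecialLinearGroup (Fin 2) F)) ⊆ {1, -1} := fun g hg => hk g hg
  by_cases h4 : φ.ker = ⊥
  · left; rw [h4, Subgroup.card_bot]
  right
  obtain ⟨⟨g, hg⟩, hg1⟩ := Subgroup.ne_bot_iff_exists_ne_one.1 h4
  replace hg1 : g ≠ 1 := fun h => hg1 (Subtype.ext h)
  have hgm : g = -1 := (h3 hg).resolve_left hg1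
  have h5 : (φ.ker : Set (SpecialLinearGroup (Fin 2) F)) = {1, -1} := by
    refine Set.Subset.antisymm h3 ?_
    rintro x (rfl | hx)
    · exact one_mem _
    · rw [Set.mem_singleton_iff] at hx
      rw [hx, ← hgm]; exact hg
  have hne : (1 : SpecialLinearGroup (Fin 2) F) ≠ -1 := fun h => hg1 (hgm.trans h.symm)
  constructor
  · have h6 : Nat.card φ.ker = Nat.card ((φ.ker : Set (SpecialLinearGroup (Fin 2) F))) := rfl
    rw [h6, h5, Nat.card_coe_set_eq, Set.ncard_pair hne]
  · rw [Nat.card_eq_fintype_card]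
    by_contra hcon
    have h7 : Fintype.card F % 2 = 0 := by
      rw [Nat.odd_iff] at hcon; omega
    have h8 : ringChar F = 2 := (FiniteField.even_card_iff_char_two).2 h7
    apply hne
    have : CharP F 2 := by rw [← h8]; exact ringChar.charP F
    have h9 : (-1 : F) = 1 := by
      have h := CharP.cast_eq_zero F 2
      rw [Nat.cast_ofNat] at h
      linear_combination -h
    have h10 : ∀ i j, (1 : SpecialLinearGroup (Fin 2) F).1 i j = (-1 : SpecialLinearGroup (Fin 2) F).1 i j := by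
      intro i j
      show (1 : Matrix (Fin 2) (Fin 2) F) i j = (-1 : Matrix (Fin 2) (Fin 2) F) i j
      fin_cases i <;> fin_cases j <;> simp [h9]
    exact Subtype.ext (Matrix.ext h10)

theorem card_eq_pow {r : ℕ} [Fact r.Prime] [CharP F r] : ∃ m : ℕ, 1 ≤ m ∧ Nat.card F = r ^ m := by
  have : Fintype F := Fintype.ofFinite F
  obtain ⟨m, hm, e⟩ := FiniteField.card F r
  exact ⟨m, m.pos, by rw [Nat.card_eq_fintype_card, e]⟩

theorem dvd_range (hk : ∀ g, φ g = 1 → g = 1 ∨ g = -1) {p : ℕ} (hp : p.Prime) (h2 : p ≠ 2)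
    (h : p ∣ Nat.card F ^ 2 - 1) : p ∣ Nat.card φ.range := by
  obtain ⟨c, hc, hc2⟩ := card_range hk
  have h1 : p ∣ Nat.card φ.range * c := by rw [hc]; exact h.mul_left _
  rcases (Nat.Prime.dvd_mul hp).1 h1 with h3 | h3
  · exact h3
  · exfalso
    rcases hc2 with rfl | ⟨rfl, -⟩
    · exact hp.one_lt.ne' (Nat.dvd_one.1 h3)
    · exact h2 ((Nat.prime_dvd_prime_iff_eq hp Nat.prime_two).1 h3)

theorem not_dvd_range (hk : ∀ g, φ g = 1 → g = 1 ∨ g = -1) {p r : ℕ} (hp : p.Prime) [Fact r.Prime] [CharP F r]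
    (hpr : p ≠ r) (h : ¬ p ∣ Nat.card F ^ 2 - 1) : ¬ p ∣ Nat.card φ.range := by
  obtain ⟨c, hc, -⟩ := card_range hk
  intro h1
  have h3 : p ∣ Nat.card F * (Nat.card F ^ 2 - 1) := by rw [← hc]; exact h1.mul_right _
  rcases (Nat.Prime.dvd_mul hp).1 h3 with h4 | h4
  · obtain ⟨m, -, e⟩ := card_eq_pow (F := F) (r := r)
    rw [e] at h4
    exact hpr ((Nat.prime_dvd_prime_iff_eq hp Fact.out).1 (hp.dvd_of_dvd_pow h4))
  · exact h h4

/-- **`JOK p r φ.range`** -/
theorem jok (hk : ∀ g, φ g = 1 → g = 1 ∨ g = -1) {p r : ℕ} (hp : p.Prime) (h2 : p ≠ 2) [hr : Fact r.Prime] [CharP F r]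
    (hpr : p ≠ r) (hq : 3 ≤ Nat.card F) : JOK p r φ.range := by
  obtain ⟨m, hm, e⟩ := card_eq_pow (F := F) (r := r)
  by_cases hd : p ∣ Nat.card F ^ 2 - 1
  swap
  · exact Or.inl (not_dvd_range hk hp hpr hd)
  right
  obtain ⟨c, hc, hc2⟩ := card_range hk
  set q := Nat.card F with hqd
  have e1 : q ^ 2 - 1 = (q + 1) * (q - 1) := by
    have := Nat.sq_sub_sq q 1
    rw [one_pow] at this
    exact this
  by_cases hr2 : r = 2
  · -- even characteristic
    subst hr2
    have heven : 2 ∣ q := by rw [e]; exact dvd_pow_self 2 (by omega)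
    have hc1 : c = 1 := by
      rcases hc2 with h | ⟨-, h⟩
      · exact h
      · exact absurd heven (by rw [← even_iff_two_dvd]; exact Nat.not_even_iff_odd.2 h)
    rw [hc1, mul_one] at hc
    obtain ⟨k, hk'⟩ := heven
    by_cases h3 : p ∣ q - 1
    · obtain ⟨l, hl, hld⟩ := Nat.exists_prime_and_dvd (n := q + 1) (by omega)
      refine ⟨l, hl, ?_, ?_, ?_⟩
      · rintro rfl
        have h4 : l ∣ 2 := by
          have := Nat.dvd_sub hld h3
          rwa [show q + 1 - (q - 1) = 2 by omega] at this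
        exact h2 ((Nat.prime_dvd_prime_iff_eq hl Nat.prime_two).1 h4)
      · rintro rfl
        obtain ⟨k', hk''⟩ := hld
        omega
      · rw [hc, e1]
        exact (hld.mul_right _).mul_left _
    · obtain ⟨l, hl, hld⟩ := Nat.exists_prime_and_dvd (n := q - 1) (by omega)
      refine ⟨l, hl, ?_, ?_, ?_⟩
      · rintro rfl
        exact h3 hld
      · rintro rfl
        obtain ⟨k', hk''⟩ := hld
        omega
      · rw [hc, e1]
        exact (hld.mul_left _).mul_left _
  · -- odd characteristic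
    refine ⟨2, Nat.prime_two, fun h => h2 h.symm, fun h => hr2 h.symm, ?_⟩
    have hodd : q % 2 = 1 := by
      have : Odd q := by
        rw [e]
        exact (hr.out.odd_of_ne_two hr2).pow
      exact Nat.odd_iff.1 this
    obtain ⟨k, hk'⟩ : ∃ k, q = 2 * k + 1 := ⟨q / 2, by omega⟩
    have h4 : 4 ∣ Nat.card φ.range * c := by
      rw [hc, e1, hk']
      refine Dvd.dvd.mul_left ?_ _
      exact ⟨(k + 1) * k, by
        rw [show 2 * k + 1 - 1 = 2 * k by omega]
        ring⟩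
    rcases hc2 with rfl | ⟨rfl, -⟩
    · rw [mul_one] at h4
      exact (by norm_num : 2 ∣ 4).trans h4
    · obtain ⟨a, ha⟩ := h4
      exact ⟨a, by omega⟩

end Cfsg.Agent.H428.NBL
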